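import Cfsg.Agent.KZ.Lie.Iface
import Cfsg.Agent.KZ.Dat.Spm

/-!
# KZ, the linear and unitary groups with `3 ∣ q - ε` (helper18): the data

`ALike s`: the Weyl group acts on the coordinates of the torus by permutation matrices, `w0 F` is the scalar `Q = ε q`.
`HasA m Q S`: the group `S` has such a datum with `m` coordinates.
-/

set_option autoImplicit false
set_option linter.unusedSectionVars false

namespace Cfsg.Agent.KZ.ClA

open Cfsg Cfsg.Agent.DL Cfsg.Agent.DL.PP Cfsg.Agent.KZ.Lie Cfsg.Agent.KZ.Dat Matrix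

section

variable {p : ℕ} [Fact p.Prime] {k : Type} [Field k] [CharP k p] {Y : Type} [Group Y] {N : Type} [Fintype N]
  [DecidableEq N] {ρ : Y →* GL N k} {F : MulAut Y} {G : Subgroup Y} [IsAlgClosed k] {D : Datum p ρ F G}
  [Fintype ↥(GF F G)] {Adm : Matrix D.R D.R ℤ → Prop} {S : Type} [Group S]

/-- the data of `GL_m(q)` (`Q = q`, `w0 = 1`) and `GU_m(q)` (`Q = -q`, `w0` the longest element) -/
structure ALike (s : Sit D Adm S) (Q : ℤ) where
  e : D.W ≃* Equiv.Perm D.R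
  Wm_eq : ∀ w, D.Wm w = spm (e w) 1
  w0 : D.W
  hQ : D.Wm w0 * D.Mx = Q • (1 : Matrix D.R D.R ℤ)
  adm : ∀ A, Adm A → ∃ (a : ℤ) (u : D.W), ¬ 3 ∣ a ∧ A = a • D.Wm u
  rt : ∀ a, D.Rt a → ∃ i j, i ≠ j ∧ D.wt a = Pi.single i 1 - Pi.single j 1 ∧ D.cor a = Pi.single i 1 - Pi.single j 1
  cen : ∀ z : ↥s.H0, s.π z = 1 → ∃ t : kˣ, t ^ Fintype.card D.R = 1 ∧ (z : Y) = D.τ fun _ => t

end

/-- the group `S` has a datum of linear or unitary type -/
def HasA (m : ℕ) (Q : ℤ) (S : Type) [Group S] : Prop :=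
  ∃ (p : ℕ) (_ : Fact p.Prime) (k : Type) (_ : Field k) (_ : CharP k p) (_ : IsAlgClosed k) (Y : Type) (_ : Group Y)
    (N : Type) (_ : Fintype N) (_ : DecidableEq N) (ρ : Y →* GL N k) (F : MulAut Y) (G : Subgroup Y) (D : Datum p ρ F G)
    (_ : Fintype ↥(GF F G)) (Adm : Matrix D.R D.R ℤ → Prop) (s : Sit D Adm S),
    p ≠ 3 ∧ Fintype.card D.R = m ∧ Nonempty (ALike s Q)

end Cfsg.Agent.KZ.ClA
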