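import Mathlib

/-!
# KZ, type A (helper18): an invariant character of a normal subgroup which kills the commutators

`θ` is a character of odd order of `T`.  `M / T` is generated by commuting elements `a i` which can be inverted one by one,
`ρ` inverts `M / T`, and `P ≤ ⟨g⟩ M`.  Then `θ` is trivial on `P' ⊓ T`.
-/

set_option autoImplicit false

namespace Cfsg.Agent.KZ.ClA

open scoped commutatorElement

variable {E : Type*} [Group E] {B : Type*} [CommGroup B]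

/-- the setting -/
structure Ex (T M : Subgroup E) (θ : E → B) : Prop where
  nor : T.Normal
  le : T ≤ M
  mul : ∀ a ∈ T, ∀ b ∈ T, θ (a * b) = θ a * θ b
  odd : ∀ t ∈ T, θ t * θ t = 1 → θ t = 1
  inv : ∀ x ∈ M, ∀ t ∈ T, θ (x * t * x⁻¹) = θ t
  com : ∀ x ∈ M, ∀ y ∈ M, x * y * x⁻¹ * y⁻¹ ∈ T

namespace Ex

variable {T M : Subgroup E} {θ : E → B} (h : Ex T M θ)
include h

theorem one : θ 1 = 1 := by
  have := h.mul 1 T.one_mem 1 T.one_mem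
  rw [mul_one] at this
  exact (mul_eq_left.1 this.symm)

theorem inv_eq {t : E} (ht : t ∈ T) : θ t⁻¹ = (θ t)⁻¹ := by
  rw [eq_inv_iff_mul_eq_one, ← h.mul _ (T.inv_mem ht) _ ht, inv_mul_cancel, h.one]

/-- the commutator form, as a homomorphism in the first variable -/
def form (y : E) (hy : y ∈ M) : M →* B where
  toFun x := θ (x * y * (x : E)⁻¹ * y⁻¹)
  map_one' := by simpa using h.one
  map_mul' x x' := by
    have h1 := h.com _ x'.2 _ hy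
    rw [mul_comm, ← h.inv _ x.2 _ h1, ← h.mul _ (h.nor.conj_mem _ h1 _) _ (h.com _ x.2 _ hy)]
    congr 1
    rw [Subgroup.coe_mul]
    group

theorem form_T {t y : E} (ht : t ∈ T) (hy : y ∈ M) : θ (t * y * t⁻¹ * y⁻¹) = 1 := by
  have h1 : t * y * t⁻¹ * y⁻¹ = t * (y * t⁻¹ * y⁻¹) := by group
  rw [h1, h.mul _ ht _ (h.nor.conj_mem _ (T.inv_mem ht) _), h.inv _ hy _ (T.inv_mem ht), h.inv_eq ht, mul_inv_cancel]

theorem form_symm {x y : E} (hx : x ∈ M) (hy : y ∈ M) : θ (y * x * y⁻¹ * x⁻¹) = (θ (x * y * x⁻¹ * y⁻¹))⁻¹ := by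
  rw [← h.inv_eq (h.com _ hx _ hy)]
  congr 1
  group

theorem form_left {x x' y : E} (hx : x ∈ M) (hx' : x' ∈ M) (hy : y ∈ M) :
    θ (x * x' * y * (x * x')⁻¹ * y⁻¹) = θ (x * y * x⁻¹ * y⁻¹) * θ (x' * y * x'⁻¹ * y⁻¹) :=
  (h.form y hy).map_mul ⟨x, hx⟩ ⟨x', hx'⟩

theorem form_right {x y y' : E} (hx : x ∈ M) (hy : y ∈ M) (hy' : y' ∈ M) :
    θ (x * (y * y') * x⁻¹ * (y * y')⁻¹) = θ (x * y * x⁻¹ * y⁻¹) * θ (x * y' * x⁻¹ * y'⁻¹) := by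
  rw [h.form_symm (M.mul_mem hy hy') hx, h.form_left hy hy' hx, h.form_symm hy hx, h.form_symm hy' hx, mul_inv]

/-- the form vanishes -/
theorem form_eq_one {κ : Type*} (a r : κ → E) (ha : ∀ i, a i ∈ M) (hM : M ≤ Subgroup.closure (Set.range a) ⊔ T)
    (hr : ∀ i, ∀ t ∈ T, θ (r i * t * (r i)⁻¹) = θ t) (h1 : ∀ i, r i * a i * (r i)⁻¹ * a i ∈ T)
    (h2 : ∀ i j, i ≠ j → r i * a j * (r i)⁻¹ * (a j)⁻¹ ∈ T) {x y : E} (hx : x ∈ M) (hy : y ∈ M) :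
    θ (x * y * x⁻¹ * y⁻¹) = 1 := by
  have key : ∀ y (hy : y ∈ M), (∀ i, θ (a i * y * (a i)⁻¹ * y⁻¹) = 1) → ∀ x ∈ M, θ (x * y * x⁻¹ * y⁻¹) = 1 := by
    intro y hy h3 x hx
    have h4 : Subgroup.closure (Set.range a) ⊔ T ≤ (h.form y hy).ker.map M.subtype := by
      refine sup_le ((Subgroup.closure_le _).2 ?_) fun t ht => ⟨⟨t, h.le ht⟩, h.form_T ht hy, rfl⟩
      rintro _ ⟨i, rfl⟩
      exact ⟨⟨a i, ha i⟩, h3 i, rfl⟩
    obtain ⟨x', h5, rfl⟩ := h4 (hM hx)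
    exact h5
  refine key y hy (fun i => ?_) x hx
  rw [h.form_symm hy (ha i), key (a i) (ha i) (fun j => ?_) y hy, inv_one]
  by_cases hij : j = i
  · rw [hij]
    simpa using h.one
  · apply h.odd _ (h.com _ (ha j) _ (ha i))
    have h3 := hr j _ (h.com _ (ha j) _ (ha i))
    set u := r j * a j * (r j)⁻¹ * a j with hu
    set w := r j * a i * (r j)⁻¹ * (a i)⁻¹ with hw
    have hu' : u ∈ T := h1 j
    have hw' : w ∈ T := h2 j i hij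
    have h4 : r j * (a j * a i * (a j)⁻¹ * (a i)⁻¹) * (r j)⁻¹ =
        u * (a j)⁻¹ * (w * a i) * (u * (a j)⁻¹)⁻¹ * (w * a i)⁻¹ := by
      rw [hu, hw]
      group
    have hj := M.inv_mem (ha j)
    rw [h4, h.form_left (h.le hu') hj (M.mul_mem (h.le hw') (ha i)), h.form_T hu' (M.mul_mem (h.le hw') (ha i)), one_mul,
      h.form_right hj (h.le hw') (ha i), h.form_symm (h.le hw') hj, h.form_T hw' hj, inv_one, one_mul] at h3
    have h5 := h.form_left (ha j) hj (ha i)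
    rw [h3] at h5
    rw [← h5]
    simpa using h.one

/-- the commutators of `⟨g⟩ M` -/
theorem kill (hc : ∀ x ∈ M, ∀ y ∈ M, θ (x * y * x⁻¹ * y⁻¹) = 1) {ρ g : E} (hρ : ∀ m ∈ M, m * (ρ * m * ρ⁻¹) ∈ T)
    (hρ' : ∀ t ∈ T, θ (ρ * t * ρ⁻¹) = θ t) (hg : ∀ m, m ∈ M ↔ g * m * g⁻¹ ∈ M) (hg' : ∀ t ∈ T, θ (g * t * g⁻¹) = θ t)
    (hgρ : g⁻¹ * ρ * g * ρ⁻¹ ∈ M) {P : Subgroup E} (hP : ∀ x ∈ P, ∃ n : ℤ, x * (g ^ n)⁻¹ ∈ M) {t : E} (ht : t ∈ T)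
    (ht' : t ∈ ⁅P, P⁆) : θ t = 1 := by
  have hρM : ∀ m ∈ M, ρ * m * ρ⁻¹ ∈ M := fun m hm => by
    have := M.mul_mem (M.inv_mem hm) (h.le (hρ m hm))
    rwa [inv_mul_cancel_left] at this
  let l : M →* B :=
    { toFun := fun m => θ (m * (ρ * m * ρ⁻¹))
      map_one' := by simpa using h.one
      map_mul' := fun m m' => by
        have h1 := h.com _ m'.2 _ (hρM _ m.2)
        have h2 : ((m * m' : M) : E) * (ρ * (m * m' : M) * ρ⁻¹) =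
            m * (m' * (ρ * m * ρ⁻¹) * (m' : E)⁻¹ * (ρ * m * ρ⁻¹)⁻¹) * (m : E)⁻¹ * (m * (ρ * m * ρ⁻¹) * (m' * (ρ * m' * ρ⁻¹))) := by
          rw [Subgroup.coe_mul]
          group
        rw [h2, h.mul _ (h.nor.conj_mem _ h1 _) _ (T.mul_mem (hρ _ m.2) (hρ _ m'.2)), h.inv _ m.2 _ h1,
          hc _ m'.2 _ (hρM _ m.2), one_mul, h.mul _ (hρ _ m.2) _ (hρ _ m'.2)] }
  have hl : ∀ m m' : M, (m' : E) = g * m * g⁻¹ → l m' = l m := by
    intro m m' e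
    show θ (m' * (ρ * m' * ρ⁻¹)) = θ (m * (ρ * m * ρ⁻¹))
    set n := g⁻¹ * ρ * g * ρ⁻¹ with hn
    have h1 := h.com _ hgρ _ (hρM _ m.2)
    have h2 : (m' : E) * (ρ * m' * ρ⁻¹) =
        g * (m * (n * (ρ * m * ρ⁻¹) * n⁻¹ * (ρ * m * ρ⁻¹)⁻¹) * (m : E)⁻¹ * (m * (ρ * m * ρ⁻¹))) * g⁻¹ := by
      rw [e, hn]
      group
    rw [h2, hg' _ (T.mul_mem (h.nor.conj_mem _ h1 _) (hρ _ m.2)), h.mul _ (h.nor.conj_mem _ h1 _) _ (hρ _ m.2),
      h.inv _ m.2 _ h1, hc _ hgρ _ (hρM _ m.2), one_mul]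
  have hn : ∀ (n : ℤ) (m : M), ∃ m' : M, (m' : E) = g ^ n * m * (g ^ n)⁻¹ ∧ l m' = l m := by
    intro n
    induction n using Int.induction_on with
    | zero => exact fun m => ⟨m, by simp, rfl⟩
    | succ n ih =>
      intro m
      obtain ⟨m', h1, h2⟩ := ih m
      refine ⟨⟨_, (hg _).1 m'.2⟩, ?_, (hl m' _ rfl).trans h2⟩
      show g * m' * g⁻¹ = _
      rw [h1]
      group
    | pred n ih =>
      intro m
      obtain ⟨m', h1, h2⟩ := ih m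
      have h3 : g⁻¹ * m' * g ∈ M := (hg _).2 (by simp [mul_assoc])
      refine ⟨⟨_, h3⟩, ?_, (hl ⟨_, h3⟩ m' (by simp [mul_assoc])).symm.trans h2⟩
      show g⁻¹ * m' * g = _
      rw [h1]
      group
  have h1 : ⁅P, P⁆ ≤ l.ker.map M.subtype := by
    rw [Subgroup.commutator_le]
    intro x hx y hy
    obtain ⟨a, ha⟩ := hP x hx
    obtain ⟨b, hb⟩ := hP y hy
    obtain ⟨u, hu, hu'⟩ := hn a ⟨_, hb⟩
    obtain ⟨w, hw, hw'⟩ := hn b ⟨_, ha⟩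
    refine ⟨⟨_, ha⟩ * u * w⁻¹ * (⟨_, hb⟩ : M)⁻¹, ?_, ?_⟩
    · show l _ = 1
      rw [map_mul, map_mul, map_mul, map_inv, map_inv, hu', hw', mul_comm (l _) (l _), mul_inv_cancel_right,
        mul_inv_cancel]
    · show x * (g ^ a)⁻¹ * u * (w : E)⁻¹ * (y * (g ^ b)⁻¹)⁻¹ = _
      rw [hu, hw, commutatorElement_def]
      group
  obtain ⟨t', h2, rfl⟩ := h1 ht'
  apply h.odd _ ht
  have h3 : θ (M.subtype t' * (ρ * M.subtype t' * ρ⁻¹)) = 1 := h2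
  rwa [h.mul _ ht _ (h.nor.conj_mem _ ht _), hρ' _ ht] at h3

end Ex

end Cfsg.Agent.KZ.ClA
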