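import Cfsg.Agent.KZ.ClA.Nab

/-!
# KZ, type A (helper18): degree `4`, `9 ∤ Q - 1`
-/

set_option autoImplicit false
set_option linter.unusedSectionVars false

namespace Cfsg.Agent.KZ.ClA

open Equiv Cfsg.Agent.KZ.Alt

attribute [local instance] fact3

variable {R : Type} [Fintype R] [DecidableEq R] {Q : ℤ}

theorem Ok.cube {c : R → ℂˣ} (h : Ok Q c) (h9 : ¬ 9 ∣ Q - 1) : c ^ 3 = 1 := by
  obtain ⟨h1, ⟨j, hj⟩, -⟩ := h
  obtain ⟨i, -, hi⟩ := (Nat.dvd_prime_pow Nat.prime_three).1 (orderOf_dvd_of_pow_eq_one hj)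
  have h2 := orderOf_dvd_iff_zpow_eq_one.2 h1
  rw [hi] at h2
  rw [← orderOf_dvd_iff_pow_eq_one, hi]
  rcases i with _ | _ | i
  · decide
  · decide
  · refine absurd (Dvd.dvd.trans ?_ h2) h9
    exact ⟨3 ^ i, by push_cast; ring⟩

theorem eq_pow_of_cube {ω z : ℂˣ} (hω : orderOf ω = 3) (hz : z ^ 3 = 1) : ∃ n : ℕ, z = ω ^ n := by
  have h : IsPrimitiveRoot ω 3 := hω ▸ IsPrimitiveRoot.orderOf ω
  obtain ⟨n, -, hn⟩ := h.eq_pow_of_mem_rootsOfUnity ((mem_rootsOfUnity _ _).2 hz)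
  exact ⟨n, hn.symm⟩

theorem single_comp (σ : Perm R) (r : R) (z : ℂˣ) : (Pi.mulSingle (σ r) z : R → ℂˣ) ∘ σ = Pi.mulSingle r z := by
  funext x
  simp [Pi.mulSingle_apply]

namespace GS

variable {E : Type} [Group E] [Finite E] (g : GS E R Q)

theorem four (hm : Fintype.card R = 4) (h3 : 3 ∣ Q - 1) (h9 : ¬ 9 ∣ Q - 1) (hi : ¬ 3 ∣ g.N.index) (P : Sylow 3 E) :
    U4 (P : Subgroup E) := by
  have := g.nor
  have := g.norT
  have h31 : (3 : ℤ) ^ 1 ∣ Q - 1 := by rwa [pow_one]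
  have hn : ¬ 3 ∣ Fintype.card R := by omega
  obtain ⟨ω, hω⟩ := exists_root (n := 3) (by norm_num)
  have hω3 : ω ^ 3 = 1 := by rw [← hω, pow_orderOf_eq_one]
  obtain ⟨e⟩ := exists_emb (R := R) (w := 1) (by omega)
  obtain ⟨P', hP'⟩ := g.exists_stdP (by omega) e 1 (order_one (by norm_num))
  refine U4.congr (P.equiv P') ?_
  clear P
  have hP : (P' : Subgroup E) ≤ g.N := Res.sylow_le_of_index hi P'
  obtain ⟨τ, hτ, hv⟩ := hP'.bwd (fun _ => γ) 0
  rw [zpow_zero, mul_one] at hv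
  have hσ : ∀ x : Fin 1 × C3, g.v τ (e x) = e (x.1, γ * x.2) := fun x => by
    rw [hv, Perm.viaEmbeddingHom_apply, Perm.viaEmbedding_apply, b0_apply]
  have hσ' : ∀ r, r ∉ Set.range e → g.v τ r = r := fun r hr => by
    rw [hv, Perm.viaEmbeddingHom_apply, Perm.viaEmbedding_apply_of_notMem _ _ _ hr]
  have hs : ∀ r : R, Ok Q (Pi.mulSingle r ω) := fun r =>
    ok_of_pow (j := 1) (by rw [← Pi.mulSingle_pow, pow_one, hω3, Pi.mulSingle_one]) h31 (.inr hn)
  have hexp : ∀ t ∈ g.T, t ∈ (P' : Subgroup E) → t ^ 3 = 1 := fun t ht ht' => by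
    obtain ⟨j, hj⟩ := P'.2 ⟨t, ht'⟩
    have hj' : t ^ 3 ^ j = 1 := congrArg Subtype.val hj
    refine g.sep hn _ (g.T.pow_mem ht 3) ⟨j, by rw [← pow_mul, mul_comm, pow_mul, hj', one_pow]⟩ fun c hc => ?_
    rw [g.pow_right hc ht, ← g.pow_left hc ht, hc.cube h9, g.one_left ht]
  have hV : (g.T.subgroupOf P').index = 3 := by
    have h1 : g.T.subgroupOf P' = (g.v.comp (P' : Subgroup E).subtype).ker :=
      Subgroup.ext fun x => (g.ker _ (hP x.2)).symm
    rw [h1, Subgroup.index_ker, MonoidHom.range_comp, Subgroup.range_subtype]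
    have h2 := (g.SP P').card_eq_multiplicity
    rw [Nat.card_perm, Nat.card_eq_fintype_card (α := R), hm, factorization_factorial] at h2
    exact h2.trans (by simp)
  have hab : ∀ a ∈ g.T.subgroupOf P', ∀ b ∈ g.T.subgroupOf P', a * b = b * a := fun a ha b hb =>
    Subtype.ext (g.comm _ ha _ hb)
  have hτT : τ ∉ g.T := fun h => by
    have h1 := hσ (0, 1)
    rw [(g.ker τ (hP hτ)).2 h] at h1
    exact absurd (congrArg Prod.snd (e.injective h1)) (by decide)
  obtain ⟨r₄, hr₄⟩ := exists_out e (by omega)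
  refine ⟨g.T.subgroupOf P', hV, hab, fun v hv => Subtype.ext (hexp _ hv v.2), ?_, ?_⟩
  · by_contra hc
    have h1 : ∀ x ∈ (P' : Subgroup E), x ^ 3 = 1 := fun x hx =>
      congrArg Subtype.val (by_contra fun h => hc ⟨⟨x, hx⟩, h⟩ : (⟨x, hx⟩ : (P' : Subgroup E)) ^ 3 = 1)
    have h2 := g.const_of_V (((hs (e (0, 1))).mul ((hs (e (0, 1))).comp (g.v τ))).mul
      (((hs (e (0, 1))).comp (g.v τ)).comp (g.v τ))) (fun t ht => by
        have h4 := h1 _ ((P' : Subgroup E).mul_mem (g.V_le P' ht) hτ)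
        have h5 : (t * τ) ^ 3 = t * (τ * t * τ⁻¹) * (τ * (τ * t * τ⁻¹) * τ⁻¹) * τ ^ 3 := by
          simp only [pow_succ, pow_zero]
          group
        have h6 := g.norT.conj_mem t ht.1 τ
        rw [g.mul' _ _ ((hs _).mul ((hs _).comp _)) (((hs _).comp _).comp _) t ht.1, g.mul' _ _ (hs _) ((hs _).comp _) t ht.1,
          ← g.actN (hP hτ) ((hs _).comp _) ht.1, ← g.actN (hP hτ) (hs _) h6, ← g.actN (hP hτ) (hs _) ht.1,
          ← g.mul _ (hs _) _ ht.1 _ h6, ← g.mul _ (hs _) _ (g.T.mul_mem ht.1 h6) _ (g.norT.conj_mem _ h6 τ)]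
        rw [h5, h1 τ hτ, mul_one] at h4
        rw [h4, g.one_right (hs _)]) (e (0, 1)) r₄
    have h3 : r₄ ≠ e (0, 1) := fun h => hr₄ ⟨_, h.symm⟩
    have h4 : e (0, γ) ≠ e (0, 1) := fun h => absurd (congrArg Prod.snd (e.injective h)) (by decide)
    have h5 : e (0, γ * γ) ≠ e (0, 1) := fun h => absurd (congrArg Prod.snd (e.injective h)) (by decide)
    simp only [Pi.mul_apply, Function.comp_apply, hσ, hσ' r₄ hr₄, Pi.mulSingle_eq_same, Pi.mulSingle_eq_of_ne h3,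
      Pi.mulSingle_eq_of_ne h4, Pi.mulSingle_eq_of_ne h5, mul_one] at h2
    rw [h2, orderOf_one] at hω
    omega
  · rw [Res.index_comm_abelian hab (Res.gen_of_index_prime Nat.prime_three hV (x := ⟨τ, hτ⟩) hτT), hV]
    have key : ∀ t (ht : t ∈ g.T), t ∈ (P' : Subgroup E) → τ * t = t * τ → g.Θ (Pi.mulSingle (e (0, 1)) ω) t = 1 →
        t = 1 := by
      intro t ht ht' hc h1
      let K : Subgroup (R → ℂˣ) := (g.ev ht).ker.map (OkG R Q).subtype
      have hK : ∀ c, Ok Q c → (c ∈ K ↔ g.Θ c t = 1) := fun c hc =>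
        ⟨fun ⟨c', h, e⟩ => by rw [← e]; exact h, fun h => ⟨⟨c, hc⟩, h, rfl⟩⟩
      have h2 : ∀ n : ℕ, Pi.mulSingle (e (0, γ ^ n)) ω ∈ K := by
        intro n
        rw [hK _ (hs _)]
        induction n with
        | zero => exact h1
        | succ n ih =>
          have h4 := g.actN (hP hτ) (hs (g.v τ (e (0, γ ^ n)))) ht
          rwa [hc, mul_inv_cancel_right, single_comp, ih, hσ, ← pow_succ'] at h4
      have h4 : ∀ r ∈ Set.range e, Pi.mulSingle r ω ∈ K := by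
        rintro _ ⟨⟨i, x⟩, rfl⟩
        obtain ⟨n, rfl⟩ := eq_γ_pow x
        rw [Subsingleton.elim i 0]
        exact h2 n
      have h5 : ∀ r, Pi.mulSingle r ω ∈ K := fun r => by
        by_cases hr : r ∈ Set.range e
        · exact h4 r hr
        · have h6 : Ok Q fun _ : R => ω := ok_of_pow (j := 1) (funext fun _ => hω3) h31 (.inr hn)
          have h7 := (hK _ h6).2 ((g.one _ h6).2 (fun _ _ => rfl) t ht)
          rw [← Finset.univ_prod_mulSingle fun _ : R => ω, ← Finset.mul_prod_erase _ _ (Finset.mem_univ r)] at h7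
          refine (K.mul_mem_cancel_right (K.prod_mem fun r' hr' => h4 r' (by_contra fun h8 => ?_))).1 h7
          have h10 : (Finset.univ.map e)ᶜ.card ≤ 1 := by
            rw [Finset.card_compl, Finset.card_map, hm]
            simp
          exact Finset.ne_of_mem_erase hr' (Finset.card_le_one.1 h10 r' (by simpa using h8) r (by simpa using hr))
      obtain ⟨j, hj⟩ := P'.2 ⟨t, ht'⟩
      refine g.sep hn t ht ⟨j, congrArg Subtype.val hj⟩ fun c hc => (hK c hc).1 ?_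
      rw [← Finset.univ_prod_mulSingle c]
      refine K.prod_mem fun r _ => ?_
      obtain ⟨n, h6⟩ := eq_pow_of_cube hω (congrFun (hc.cube h9) r)
      rw [h6, Pi.mulSingle_pow]
      exact K.pow_mem (h5 r) n
    have h1 : Nat.card ↥(Subgroup.centralizer ({⟨τ, hτ⟩} : Set (P' : Subgroup E)) ⊓ g.T.subgroupOf P') ≤
        Nat.card (Subgroup.zpowers ω) := by
      have : Finite (Subgroup.zpowers ω) := Nat.finite_of_card_ne_zero (by rw [Nat.card_zpowers, hω]; norm_num)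
      refine Nat.card_le_card_of_injective (fun t => ⟨g.Θ (Pi.mulSingle (e (0, 1)) ω) t.1.1, ?_⟩) fun a b hab => ?_
      · obtain ⟨n, hn⟩ := eq_pow_of_cube (z := g.Θ (Pi.mulSingle (e (0, 1)) ω) t.1.1) hω (by
          rw [← g.pow_right (t := t.1.1) (hs _) t.2.2, hexp t.1.1 t.2.2 t.1.2, g.one_right (hs _)])
        rw [hn]
        exact Subgroup.npow_mem_zpowers ω n
      · have h2 : g.Θ (Pi.mulSingle (e (0, 1)) ω) a.1.1 = g.Θ (Pi.mulSingle (e (0, 1)) ω) b.1.1 :=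
          congrArg Subtype.val hab
        rw [← mul_inv_eq_one]
        refine Subtype.ext (Subtype.ext (key _ (a * b⁻¹).2.2 (a * b⁻¹).1.2
          (congrArg Subtype.val (Subgroup.mem_centralizer_singleton_iff.1 (a * b⁻¹).2.1)).symm ?_))
        have h4 := (g.hom (hs (e (0, 1)))).map_mul_inv ⟨a.1.1, a.2.2⟩ ⟨b.1.1, b.2.2⟩
        exact h4.trans (mul_inv_eq_one.2 h2)
    rw [Nat.card_zpowers, hω] at h1
    omega

end GS

end Cfsg.Agent.KZ.ClA
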