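import Cfsg.Agent.KZ.ClA.Main
import Cfsg.Agent.KZ.ClB.Om
import Cfsg.Agent.KZ.ClM.Inst
import Cfsg.Agent.KZ.ClM.Gam1
import Cfsg.Agent.KZ.L3.Main

/-!
# KZ (helper18): `Box.psl` and `Box.psu`
-/

set_option autoImplicit false
set_option linter.unusedSectionVars false

namespace Cfsg.Agent.KZ.ClA

open Cfsg Cfsg.Agent.KZ.Lie Cfsg.Agent.KZ.Cl Cfsg.Agent.KZ.Dat Cfsg.Agent.KZ.Ch3X Matrix

/-- `PSL₂(q)`, `3 ∤ q` -/
theorem row_l2 (hA : BoxApi) : Row fun S _ => ∃ (F : Type) (_ : Field F) (_ : Fintype F), ¬ 3 ∣ Fintype.card F ∧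
    4 ≤ Fintype.card F ∧ Nonempty (S ≃* ProjectiveSpecialLinearGroup (Fin 2) F) := by
  refine Cl.row_of Tool.toolOne fun S _ _ _ h2 _ ⟨F, _, _, h3, h4, ⟨e⟩⟩ => ?_
  have e' := e.trans (H451.Tor.pspOne F).symm
  refine ClB.rowAt_congr e' (ClB.rowAtC ClB.boxB hA h3 le_rfl (ClM.gammaPSp_one h4) ?_ (ClB.not_comm_congr e' h2))
  obtain ⟨p, _, f, -, -, -, -, -, -, he, hF⟩ := hasL F
  obtain ⟨φ, -, -, h5⟩ := S2602.result he hF (hF ▸ h4)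
  refine (ClM.oc3_of_hom φ (h5 ▸ fun h => ?_)).congr (H451.Tor.pspOne F)
  exact absurd (h.trans (Nat.gcd_dvd_left _ _)) (by decide)

/-- **`Box.psl`** -/
theorem box_psl (hA : BoxApi) : Row PslX := by
  refine ((row_l2 hA).or (L3.row_l3.or ((row_psl hA).or
    (Cl.row_of Tool.toolOne (K := ClM.PslM) fun S _ _ _ h2 _ => ClM.rowAt_pslM ClB.boxB hA h2)))).mono ?_
  rintro S _ ⟨F, _, _, n, h1, h2, h3, h4⟩
  have h5 : 0 < Fintype.card F := Fintype.card_pos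
  by_cases h6 : 3 ∣ Fintype.card F + 1
  · exact .inr (.inr (.inr ⟨F, _, _, n, h6, h2, h3, h4⟩))
  obtain rfl | rfl | h7 : n = 2 ∨ n = 3 ∨ 4 ≤ n := by omega
  · exact .inl ⟨F, _, _, h1, h3 rfl, h4⟩
  · exact .inr (.inl ⟨F, _, _, by omega, h4⟩)
  · exact .inr (.inr (.inl ⟨F, _, _, n, by omega, h7, h4⟩))

/-- **`Box.psu`** -/
theorem box_psu (hA : BoxApi) : Row PsuX := by
  refine (L3.row_u3.or ((row_psu hA).or
    (Cl.row_of Tool.toolOne (K := ClM.PsuM) fun S _ _ _ h2 _ => ClM.rowAt_psuM ClB.boxB hA h2))).mono ?_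
  rintro S _ ⟨F, _, _, n, q, h1, h2, h3, h4, h5⟩
  have h6 : ¬ 3 ∣ q := fun h => h1 (h2 ▸ h.trans (dvd_pow_self q two_ne_zero))
  by_cases h7 : 3 ∣ q + 1
  · obtain rfl | h8 : n = 3 ∨ 4 ≤ n := by omega
    · exact .inl ⟨F, _, _, q, h2, h7, fun h => h4 ⟨rfl, h⟩, h5⟩
    · exact .inr (.inl ⟨F, _, _, n, q, h2, h7, h8, h5⟩)
  · exact .inr (.inr ⟨F, _, _, n, q, by omega, h6, h2, h3, h5⟩)

end Cfsg.Agent.KZ.ClA
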