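import Cfsg.Agent.KZ.Alt.Syl

/-!
# KZ, type A (helper18): the standard Sylow `3`-subgroup of a symmetric group of degree at most `11`
-/

set_option autoImplicit false
set_option linter.unusedSectionVars false

namespace Cfsg.Agent.KZ.ClA

open Equiv Cfsg.Agent.KZ.Alt

variable {w : ℕ}

/-- rotations of the blocks -/
def b0 : (Fin w → C3) →* Perm (Fin w × C3) where
  toFun b := ⟨fun x => (x.1, b x.1 * x.2), fun x => (x.1, (b x.1)⁻¹ * x.2), fun x => by simp, fun x => by simp⟩
  map_one' := Equiv.ext fun x => by simp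
  map_mul' a b := Equiv.ext fun x => by simp [mul_assoc]

theorem b0_apply (b : Fin w → C3) (x : Fin w × C3) : b0 b x = (x.1, b x.1 * x.2) := rfl

/-- permutations of the blocks -/
def q0 : Perm (Fin w) →* Perm (Fin w × C3) where
  toFun q := ⟨fun x => (q x.1, x.2), fun x => (q⁻¹ x.1, x.2), fun x => by simp, fun x => by simp⟩
  map_one' := rfl
  map_mul' _ _ := rfl

theorem q0_apply (q : Perm (Fin w)) (x : Fin w × C3) : q0 q x = (q x.1, x.2) := rfl

/-- reflections of the blocks -/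
def r0 (s : Finset (Fin w)) : Perm (Fin w × C3) :=
  ⟨fun x => (x.1, if x.1 ∈ s then x.2⁻¹ else x.2), fun x => (x.1, if x.1 ∈ s then x.2⁻¹ else x.2),
    fun x => by by_cases h : x.1 ∈ s <;> simp [h], fun x => by by_cases h : x.1 ∈ s <;> simp [h]⟩

theorem r0_apply (s : Finset (Fin w)) (x : Fin w × C3) : r0 s x = (x.1, if x.1 ∈ s then x.2⁻¹ else x.2) := rfl

theorem r0_b0 (s : Finset (Fin w)) (b : Fin w → C3) :
    r0 s * b0 b * (r0 s)⁻¹ = b0 fun i => if i ∈ s then (b i)⁻¹ else b i := by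
  rw [mul_inv_eq_iff_eq_mul]
  refine Equiv.ext fun x => ?_
  simp only [Perm.mul_apply, r0_apply, b0_apply]
  split_ifs
  · rw [mul_inv]
  · rfl

theorem q0_b0 (q : Perm (Fin w)) (b : Fin w → C3) : q0 q * b0 b * (q0 q)⁻¹ = b0 fun i => b (q⁻¹ i) := by
  rw [mul_inv_eq_iff_eq_mul]
  refine Equiv.ext fun x => ?_
  simp [Perm.mul_apply, q0_apply, b0_apply]

theorem q0_r0 (q : Perm (Fin w)) : r0 Finset.univ * q0 q = q0 q * r0 Finset.univ := by
  refine Equiv.ext fun x => ?_
  simp [Perm.mul_apply, q0_apply, r0_apply]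

theorem act_eq {Q : Subgroup (Perm (Fin w))} (g : Wr Q) : act Q g = b0 g.left * q0 g.right := Equiv.ext fun _ => rfl

/-- the generator of `C3` -/
def γ : C3 := Multiplicative.ofAdd 1

theorem eq_γ_pow (x : C3) : ∃ n : ℕ, x = γ ^ n := by
  have : ∀ x : C3, x = γ ^ 0 ∨ x = γ ^ 1 ∨ x = γ ^ 2 := by decide
  rcases this x with h | h | h <;> exact ⟨_, h⟩

theorem mem_closure_single (b : Fin w → C3) :
    b ∈ Subgroup.closure (Set.range fun i : Fin w => (Pi.mulSingle i γ : Fin w → C3)) := by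
  rw [← Finset.univ_prod_mulSingle b]
  refine Subgroup.prod_mem _ fun i _ => ?_
  obtain ⟨n, hn⟩ := eq_γ_pow (b i)
  rw [hn, Pi.mulSingle_pow]
  exact Subgroup.pow_mem _ (Subgroup.subset_closure (Set.mem_range_self i)) n

variable {R : Type} [Fintype R] [DecidableEq R]

/-- the standard Sylow subgroup -/
theorem exists_std (hw : Fintype.card R / 3 = w) (e : Fin w × C3 ↪ R) (q : Perm (Fin w))
    (hq : orderOf q = 3 ^ w.factorial.factorization 3) : ∃ S : Sylow 3 (Perm R), ∀ σ, σ ∈ (S : Subgroup (Perm R)) ↔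
      ∃ (b : Fin w → C3) (n : ℤ), σ = Perm.viaEmbeddingHom e (b0 b * q0 q ^ n) := by
  have : Fact (Nat.Prime 3) := ⟨Nat.prime_three⟩
  let ι := (Perm.viaEmbeddingHom e).comp (act (Subgroup.zpowers q))
  have hι : Function.Injective ι := (Perm.viaEmbeddingHom_injective e).comp (act_injective _)
  have hc : Nat.card (Wr (Subgroup.zpowers q)) = 3 ^ (Fintype.card R).factorial.factorization 3 := by
    rw [SemidirectProduct.card, Nat.card_zpowers, hq, Nat.card_fun, card_C3, Nat.card_fin,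
      factorization_factorial (Fintype.card R), hw, pow_add]
  have h2 : Nat.card ι.range = 3 ^ (Nat.card (Perm R)).factorization 3 := by
    rw [← Nat.card_congr (MonoidHom.ofInjective hι).toEquiv, hc, Nat.card_perm, Nat.card_eq_fintype_card]
  refine ⟨Sylow.ofCard ι.range h2, fun σ => ⟨?_, ?_⟩⟩
  · rintro ⟨g, rfl⟩
    obtain ⟨n, hn⟩ := g.right.2
    exact ⟨g.left, n, by rw [← map_zpow, show q ^ n = g.right from hn, ← act_eq]; rfl⟩
  · rintro ⟨b, n, rfl⟩
    exact ⟨⟨b, ⟨q ^ n, n, rfl⟩⟩, by rw [← map_zpow]; exact congrArg (Perm.viaEmbeddingHom e) (act_eq _)⟩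

theorem exists_emb (hw : Fintype.card R / 3 = w) : Nonempty (Fin w × C3 ↪ R) := by
  apply Function.Embedding.nonempty_of_card_le
  simp only [Fintype.card_prod, Fintype.card_fin, Fintype.card_multiplicative, ZMod.card]
  omega

/-- the label which is `d i` on the block `i` and `y` outside the blocks -/
noncomputable def lab (e : Fin w × C3 ↪ R) (d : Fin w → ℂˣ) (y : R → ℂˣ) : R → ℂˣ :=
  Function.extend e (fun x => d x.1) y

theorem lab_e (e : Fin w × C3 ↪ R) (d : Fin w → ℂˣ) (y : R → ℂˣ) (x : Fin w × C3) : lab e d y (e x) = d x.1 :=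
  e.injective.extend_apply _ _ x

theorem lab_out (e : Fin w × C3 ↪ R) (d : Fin w → ℂˣ) (y : R → ℂˣ) {r : R} (hr : r ∉ Set.range e) : lab e d y r = y r :=
  Function.extend_apply' _ _ _ hr

theorem lab_comp (e : Fin w × C3 ↪ R) (d : Fin w → ℂˣ) (y : R → ℂˣ) {σ : Perm (Fin w × C3)}
    (h : ∀ x, d (σ x).1 = d x.1) : lab e d y ∘ Perm.viaEmbeddingHom e σ = lab e d y := by
  funext r
  by_cases hr : r ∈ Set.range e
  · obtain ⟨x, rfl⟩ := hr
    rw [Function.comp_apply, Perm.viaEmbeddingHom_apply, Perm.viaEmbedding_apply, lab_e, lab_e, h]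
  · rw [Function.comp_apply, Perm.viaEmbeddingHom_apply, Perm.viaEmbedding_apply_of_notMem _ _ _ hr]

theorem lab_pow (e : Fin w × C3 ↪ R) {d : Fin w → ℂˣ} {y : R → ℂˣ} {n : ℕ} (h : ∀ i, d i ^ n = 1) (h' : ∀ r, y r ^ n = 1) :
    lab e d y ^ n = 1 := by
  funext r
  by_cases hr : r ∈ Set.range e
  · obtain ⟨x, rfl⟩ := hr
    rw [Pi.pow_apply, lab_e, h, Pi.one_apply]
  · rw [Pi.pow_apply, lab_out _ _ _ hr, h', Pi.one_apply]

theorem prod_lab (e : Fin w × C3 ↪ R) {d : Fin w → ℂˣ} (h : ∀ i, d i ^ 3 = 1) : ∏ r, lab e d 1 r = 1 := by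
  rw [← Finset.prod_subset (Finset.subset_univ (Finset.univ.map e)) fun r _ hr => lab_out e d 1 (by simpa using hr),
    Finset.prod_map, Fintype.prod_prod_type]
  refine Finset.prod_eq_one fun i _ => ?_
  simp only [lab_e, Finset.prod_const, Finset.card_univ, Fintype.card_multiplicative, ZMod.card, h]

theorem exists_out (e : Fin w × C3 ↪ R) (h : 3 * w < Fintype.card R) : ∃ r, r ∉ Set.range e := by
  by_contra hc
  have h1 := Fintype.card_le_of_surjective e fun r => by_contra fun h2 => hc ⟨r, h2⟩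
  simp only [Fintype.card_prod, Fintype.card_fin, Fintype.card_multiplicative, ZMod.card] at h1
  omega

end Cfsg.Agent.KZ.ClA
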