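import Cfsg.Agent.KZ.ClA.Ext
import Cfsg.Agent.KZ.ClA.Std
import Cfsg.Agent.KZ.Tool.Res

/-!
# KZ, type A (helper18): the normaliser of the Sylow torus, abstractly

`GS E R Q`: `T ≤ N ≤ E` normal subgroups, `N / T` is the symmetric group of `R`, and the labels `c : R → ℂˣ` give
characters `Θ c` of `T`.
-/

set_option autoImplicit false
set_option linter.unusedSectionVars false

namespace Cfsg.Agent.KZ.ClA

open Equiv Cfsg.Agent.KZ.Alt
open scoped commutatorElement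

variable {R : Type} [Fintype R] [DecidableEq R] {Q : ℤ}

/-- the admissible labels -/
def Ok (Q : ℤ) (c : R → ℂˣ) : Prop :=
  c ^ (Q - 1) = 1 ∧ (∃ j : ℕ, c ^ 3 ^ j = 1) ∧ (∏ r, c r = 1 ∨ ¬ 3 ∣ Fintype.card R)

theorem Ok.one : Ok Q (1 : R → ℂˣ) := ⟨one_zpow _, ⟨0, one_pow _⟩, .inl (by simp)⟩

theorem Ok.mul {c c' : R → ℂˣ} (h : Ok Q c) (h' : Ok Q c') : Ok Q (c * c') := by
  obtain ⟨h1, ⟨i, hi⟩, h2⟩ := h
  obtain ⟨h1', ⟨j, hj⟩, h2'⟩ := h'
  refine ⟨by rw [mul_zpow, h1, h1', mul_one], ⟨i + j, ?_⟩, ?_⟩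
  · rw [mul_pow, pow_add, pow_mul, hi, mul_comm (3 ^ i), pow_mul, hj, one_pow, one_pow, mul_one]
  · refine h2.elim (fun a => h2'.imp (fun b => ?_) id) .inr
    simp only [Pi.mul_apply, Finset.prod_mul_distrib, a, b, mul_one]

theorem Ok.inv {c : R → ℂˣ} (h : Ok Q c) : Ok Q c⁻¹ := by
  obtain ⟨h1, ⟨i, hi⟩, h2⟩ := h
  refine ⟨by rw [inv_zpow, h1, inv_one], ⟨i, by rw [inv_pow, hi, inv_one]⟩, h2.imp (fun a => ?_) id⟩
  simp only [Pi.inv_apply, Finset.prod_inv_distrib, a, inv_one]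

/-- the group of admissible labels -/
def OkG (R : Type) [Fintype R] (Q : ℤ) : Subgroup (R → ℂˣ) where
  carrier := {c | Ok Q c}
  one_mem' := by classical exact Ok.one
  mul_mem' := by classical exact Ok.mul
  inv_mem' := by classical exact Ok.inv

theorem Ok.pow {c : R → ℂˣ} (h : Ok Q c) (n : ℕ) : Ok Q (c ^ n) := (OkG R Q).pow_mem h n

theorem Ok.zpow {c : R → ℂˣ} (h : Ok Q c) (n : ℤ) : Ok Q (c ^ n) := (OkG R Q).zpow_mem h n

theorem Ok.comp {c : R → ℂˣ} (h : Ok Q c) (σ : Perm R) : Ok Q (c ∘ σ) := by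
  obtain ⟨h1, ⟨i, hi⟩, h2⟩ := h
  exact ⟨funext fun r => congrFun h1 (σ r), ⟨i, funext fun r => congrFun hi (σ r)⟩,
    h2.imp (fun a => (Equiv.prod_comp σ c).trans a) id⟩

theorem ok_of_pow {c : R → ℂˣ} {j : ℕ} (h : c ^ 3 ^ j = 1) (hQ : (3 : ℤ) ^ j ∣ Q - 1)
    (h' : ∏ r, c r = 1 ∨ ¬ 3 ∣ Fintype.card R) : Ok Q c := by
  obtain ⟨n, hn⟩ := hQ
  refine ⟨?_, ⟨j, h⟩, h'⟩
  rw [hn, zpow_mul, show (3 : ℤ) ^ j = (3 ^ j : ℕ) by simp, zpow_natCast, h, one_zpow]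

/-- the structure -/
structure GS (E : Type) [Group E] (R : Type) [Fintype R] [DecidableEq R] (Q : ℤ) where
  N : Subgroup E
  T : Subgroup E
  v : E →* Perm R
  Θ : (R → ℂˣ) → E → ℂˣ
  nor : N.Normal
  norT : T.Normal
  le : T ≤ N
  comm : ∀ a ∈ T, ∀ b ∈ T, a * b = b * a
  surj : ∀ σ, ∃ x ∈ N, v x = σ
  ker : ∀ x ∈ N, v x = 1 ↔ x ∈ T
  mul : ∀ c, Ok Q c → ∀ a ∈ T, ∀ b ∈ T, Θ c (a * b) = Θ c a * Θ c b
  mul' : ∀ c c', Ok Q c → Ok Q c' → ∀ a ∈ T, Θ (c * c') a = Θ c a * Θ c' a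
  one : ∀ c, Ok Q c → ((∀ a ∈ T, Θ c a = 1) ↔ ∀ i j, c i = c j)
  sep : ¬ 3 ∣ Fintype.card R → ∀ t ∈ T, (∃ j : ℕ, t ^ 3 ^ j = 1) → (∀ c, Ok Q c → Θ c t = 1) → t = 1
  act : ∀ x, ∃ s : ℤ, (x ∈ N → s = 1) ∧ ∀ c, Ok Q c → ∀ t ∈ T, Θ c (x * t * x⁻¹) = Θ ((c ∘ v x) ^ s) t

/-- counting linear characters -/
theorem count {H : Type} [Group H] [Finite H] (V : Subgroup H) {B : Type} [CommGroup B] (f : H →* B)
    (hf : Function.Surjective f) (hV : V ≤ f.ker) {ι : Type} (χ : ι → V →* ℂˣ) (hi : Function.Injective χ)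
    (hk : ∀ i (t : V), (t : H) ∈ commutator H → χ i t = 1) : Nat.card B * Nat.card ι ≤ (commutator H).index := by
  have h1 := Subgroup.index_dvd_of_le (sup_le (Abelianization.commutator_subset_ker f) hV)
  rw [Subgroup.index_ker, MonoidHom.range_eq_top.2 hf, Subgroup.card_top] at h1
  have h2 : Nat.card (Res.Lin ((commutator H).subgroupOf V)) = (commutator H).relIndex V :=
    Res.card_lin fun x y => Subgroup.commutator_mem_commutator (Subgroup.mem_top (x : H)) (Subgroup.mem_top (y : H))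
  have h3 : Finite (Res.Lin ((commutator H).subgroupOf V)) :=
    Nat.finite_of_card_ne_zero (by rw [h2]; exact Subgroup.index_ne_zero_of_finite)
  rw [← Subgroup.relIndex_mul_index (le_sup_left : commutator H ≤ commutator H ⊔ V), Subgroup.relIndex_sup_left, mul_comm,
    ← h2]
  refine Nat.mul_le_mul (Nat.card_le_card_of_injective (fun i => ⟨χ i, fun n hn => hk i n hn⟩) fun i j e => hi ?_)
    (Nat.le_of_dvd (Nat.pos_of_ne_zero Subgroup.index_ne_zero_of_finite) h1)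
  exact congrArg Subtype.val e

namespace GS

variable {E : Type} [Group E] (g : GS E R Q) {c c' : R → ℂˣ} {t : E}

theorem v_surj : Function.Surjective g.v := fun σ => let ⟨x, _, h⟩ := g.surj σ; ⟨x, h⟩

/-- the character of a label -/
def hom (hc : Ok Q c) : g.T →* ℂˣ := MonoidHom.mk' (fun t => g.Θ c t) fun a b => g.mul c hc a a.2 b b.2

/-- evaluation -/
def ev (ht : t ∈ g.T) : OkG R Q →* ℂˣ := MonoidHom.mk' (fun c => g.Θ c t) fun a b => g.mul' a b a.2 b.2 t ht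

theorem pow_right (hc : Ok Q c) (ht : t ∈ g.T) (n : ℕ) : g.Θ c (t ^ n) = g.Θ c t ^ n := (g.hom hc).map_pow ⟨t, ht⟩ n

theorem one_right (hc : Ok Q c) : g.Θ c 1 = 1 := (g.hom hc).map_one

theorem pow_left (hc : Ok Q c) (ht : t ∈ g.T) (n : ℕ) : g.Θ (c ^ n) t = g.Θ c t ^ n := (g.ev ht).map_pow ⟨c, hc⟩ n

theorem one_left (ht : t ∈ g.T) : g.Θ 1 t = 1 := (g.ev ht).map_one

theorem div_left (hc : Ok Q c) (hc' : Ok Q c') (ht : t ∈ g.T) : g.Θ (c * c'⁻¹) t = g.Θ c t * (g.Θ c' t)⁻¹ := by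
  rw [g.mul' _ _ hc hc'.inv t ht]
  exact congrArg _ ((g.ev ht).map_inv ⟨c', hc'⟩)

theorem three_pow (hc : Ok Q c) : ∃ j : ℕ, ∀ t ∈ g.T, g.Θ c t ^ 3 ^ j = 1 :=
  let ⟨j, hj⟩ := hc.2.1
  ⟨j, fun t ht => by rw [← g.pow_left hc ht, hj, g.one_left ht]⟩

theorem actN {x : E} (hx : x ∈ g.N) (hc : Ok Q c) (ht : t ∈ g.T) : g.Θ c (x * t * x⁻¹) = g.Θ (c ∘ g.v x) t := by
  obtain ⟨s, h1, h2⟩ := g.act x
  rw [h2 c hc t ht, h1 hx, zpow_one]

/-- a `3`-element fixes an invariant label of order `3` -/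
theorem act3 {x : E} {j : ℕ} (hx : x ^ 3 ^ j = 1) (hc : Ok Q c) (h3 : c ^ 3 = 1) (hv : c ∘ g.v x = c) (ht : t ∈ g.T) :
    g.Θ c (x * t * x⁻¹) = g.Θ c t := by
  obtain ⟨s, -, h2⟩ := g.act x
  have h1 : ∀ n : ℤ, ∀ t ∈ g.T, g.Θ (c ^ n) (x * t * x⁻¹) = g.Θ (c ^ (n * s)) t := fun n t ht => by
    rw [h2 _ (hc.zpow n) t ht, zpow_mul]
    congr 2
    exact congrArg (· ^ n) hv
  have h4 : ∀ k : ℕ, g.Θ c (x ^ k * t * (x ^ k)⁻¹) = g.Θ (c ^ (s ^ k)) t := by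
    intro k
    induction k generalizing t with
    | zero => simp
    | succ k ih =>
      rw [pow_succ s, ← h1 _ t ht, ← ih (g.norT.conj_mem t ht x)]
      congr 1
      rw [pow_succ]
      group
  have h5 := h4 (3 ^ j)
  have h6 : ∀ j : ℕ, s ^ 3 ^ j ≡ s [ZMOD 3] := by
    intro j
    induction j with
    | zero => simp
    | succ j ih =>
      rw [pow_succ, pow_mul]
      exact (Int.ModEq.pow_prime_eq_self Nat.prime_three _).trans ih
  obtain ⟨n, hn⟩ := (h6 j).symm.dvd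
  rw [hx, sub_eq_iff_eq_add.1 hn, zpow_add, zpow_mul, show c ^ (3 : ℤ) = 1 from h3, one_zpow, one_mul] at h5
  have h7 := h1 1 t ht
  rw [zpow_one, one_mul] at h7
  rw [one_mul, inv_one, mul_one] at h5
  rw [h7, ← h5]

/-- the `3`-elements of `T` -/
def V : Subgroup E where
  carrier := {t | t ∈ g.T ∧ ∃ j : ℕ, t ^ 3 ^ j = 1}
  one_mem' := ⟨g.T.one_mem, 0, one_pow _⟩
  mul_mem' {a b} := fun ⟨ha, i, hi⟩ ⟨hb, j, hj⟩ => ⟨g.T.mul_mem ha hb, i + j, by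
    rw [Commute.mul_pow (g.comm a ha b hb), pow_add, pow_mul, hi, mul_comm (3 ^ i), pow_mul, hj, one_pow, one_pow, mul_one]⟩
  inv_mem' {a} := fun ⟨ha, i, hi⟩ => ⟨g.T.inv_mem ha, i, by rw [inv_pow, hi, inv_one]⟩

theorem V_le (P : Sylow 3 E) : g.V ≤ (P : Subgroup E) := by
  have : g.V.Normal := ⟨fun a ⟨ha, i, hi⟩ x => ⟨g.norT.conj_mem a ha x, i, by rw [conj_pow, hi]; simp⟩⟩
  have h : IsPGroup 3 g.V := fun a => a.2.2.imp fun _ hi => Subtype.ext hi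
  exact h.le_sylow_of_normal P

theorem const_of_V [Finite E] (hc : Ok Q c) (h : ∀ t ∈ g.V, g.Θ c t = 1) (i j : R) : c i = c j := by
  refine (g.one c hc).1 (fun t ht => ?_) i j
  obtain ⟨a, n, hn, h1⟩ := Nat.exists_eq_pow_mul_and_not_dvd (orderOf_pos t).ne' 3 (by norm_num)
  have h2 := h (t ^ n) ⟨g.T.pow_mem ht n, a, by rw [← pow_mul, mul_comm, ← h1, pow_orderOf_eq_one]⟩
  rw [g.pow_right hc ht] at h2
  obtain ⟨k, hk⟩ := g.three_pow hc
  exact (pow_eq_one_iff_of_coprime ((Nat.Coprime.pow_left k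
    ((Nat.Prime.coprime_iff_not_dvd Nat.prime_three).2 hn)))).1 ⟨hk t ht, h2⟩

/-- the extension lemma -/
theorem kill {w : ℕ} (e : Fin w × C3 ↪ R) (q : Perm (Fin w)) {P : Subgroup E} {x₀ : E}
    (hv : g.v x₀ = Perm.viaEmbeddingHom e (q0 q))
    (hP : ∀ x ∈ P, ∃ (n : ℤ) (b : Fin w → C3), x * (x₀ ^ n)⁻¹ ∈ g.N ∧ g.v (x * (x₀ ^ n)⁻¹) = Perm.viaEmbeddingHom e (b0 b))
    {d : Fin w → ℂˣ} {y : R → ℂˣ} (hc : Ok Q (lab e d y))
    (hx : ∀ t ∈ g.T, g.Θ (lab e d y) (x₀ * t * x₀⁻¹) = g.Θ (lab e d y) t) (ht : t ∈ g.T) (ht' : t ∈ ⁅P, P⁆) :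
    g.Θ (lab e d y) t = 1 := by
  have := g.nor
  let ι := (Perm.viaEmbeddingHom e).comp (b0 (w := w))
  let M : Subgroup E := g.N ⊓ ι.range.comap g.v
  have hM : ∀ {x}, x ∈ M ↔ x ∈ g.N ∧ ∃ b, Perm.viaEmbeddingHom e (b0 b) = g.v x := Iff.rfl
  have hinv : ∀ x ∈ g.N, ∀ σ, g.v x = Perm.viaEmbeddingHom e σ → (∀ z, (σ z).1 = z.1) → ∀ t ∈ g.T,
      g.Θ (lab e d y) (x * t * x⁻¹) = g.Θ (lab e d y) t := fun x hx σ h1 h2 t ht => by
    rw [g.actN hx hc ht, h1, lab_comp e d y fun z => by rw [h2]]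
  have h : Ex g.T M (g.Θ (lab e d y)) := by
    refine ⟨g.norT, fun t ht => hM.2 ⟨g.le ht, 1, by rw [map_one, map_one, (g.ker t (g.le ht)).2 ht]⟩, g.mul _ hc,
      fun t ht h1 => ?_, fun x hx => ?_, fun x hx x' hx' => ?_⟩
    · obtain ⟨k, hk⟩ := g.three_pow hc
      exact (pow_eq_one_iff_of_coprime (Nat.Coprime.pow_left k (by decide : Nat.Coprime 3 2))).1 ⟨hk t ht, by rw [sq, h1]⟩
    · obtain ⟨h1, b, hb⟩ := hM.1 hx
      exact hinv x h1 _ hb.symm fun _ => rfl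
    · obtain ⟨h1, b, hb⟩ := hM.1 hx
      obtain ⟨h1', b', hb'⟩ := hM.1 hx'
      refine (g.ker _ (g.N.mul_mem (this.conj_mem _ h1' x) (g.N.inv_mem h1'))).1 ?_
      simp only [map_mul, map_inv, ← hb, ← hb']
      simp only [← map_mul, ← map_inv]
      rw [mul_comm b b']
      simp
  choose a ha ha' using fun i : Fin w => g.surj (Perm.viaEmbeddingHom e (b0 (Pi.mulSingle i γ)))
  choose r hr hr' using fun s : Finset (Fin w) => g.surj (Perm.viaEmbeddingHom e (r0 s))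
  have hr2 : ∀ s, ∀ t ∈ g.T, g.Θ (lab e d y) (r s * t * (r s)⁻¹) = g.Θ (lab e d y) t := fun s =>
    hinv _ (hr s) _ (hr' s) fun _ => rfl
  have hc2 : ∀ x ∈ M, ∀ x' ∈ M, g.Θ (lab e d y) (x * x' * x⁻¹ * x'⁻¹) = 1 := by
    intro x hx x' hx'
    refine h.form_eq_one a (fun i => r {i}) (fun i => hM.2 ⟨ha i, _, (ha' i).symm⟩) (fun m hm => ?_) (fun i => hr2 _)
      (fun i => ?_) (fun i j hij => ?_) hx hx'
    · obtain ⟨h1, b, hb⟩ := hM.1 hm
      have h2 : ι b ∈ (Subgroup.closure (Set.range a)).map g.v := by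
        have h3 : Subgroup.closure (Set.range fun i : Fin w => (Pi.mulSingle i γ : Fin w → C3)) ≤
            ((Subgroup.closure (Set.range a)).map g.v).comap ι := by
          rw [Subgroup.closure_le]
          rintro _ ⟨i, rfl⟩
          exact ⟨a i, Subgroup.subset_closure ⟨i, rfl⟩, ha' i⟩
        exact h3 (mem_closure_single b)
      obtain ⟨z, hz, hz'⟩ := h2
      have h3 : z ∈ g.N := (Subgroup.closure_le g.N).2 (by rintro _ ⟨i, rfl⟩; exact ha i) hz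
      rw [← mul_inv_cancel_left z m]
      refine Subgroup.mul_mem_sup hz ((g.ker _ (g.N.mul_mem (g.N.inv_mem h3) h1)).1 ?_)
      rw [map_mul, map_inv, hz', ← hb]
      exact inv_mul_cancel _
    · refine (g.ker _ (g.N.mul_mem (this.conj_mem _ (ha i) _) (ha i))).1 ?_
      simp only [map_mul, map_inv, ha', hr']
      simp only [← map_mul, ← map_inv, r0_b0]
      rw [← map_one (Perm.viaEmbeddingHom e), ← map_one b0]
      congr 2
      funext k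
      by_cases hk : k = i <;> simp [hk]
    · refine (g.ker _ (g.N.mul_mem (this.conj_mem _ (ha j) _) (g.N.inv_mem (ha j)))).1 ?_
      simp only [map_mul, map_inv, ha', hr']
      simp only [← map_mul, ← map_inv, r0_b0]
      rw [← map_one (Perm.viaEmbeddingHom e), ← map_one b0]
      congr 2
      funext k
      by_cases hk : k = i <;> simp [hk, hij]
  have hq : ∀ (x : E) (q : Perm (Fin w)), g.v x = Perm.viaEmbeddingHom e (q0 q) → ∀ m ∈ M, x * m * x⁻¹ ∈ M := by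
    intro x q hx m hm
    obtain ⟨h1, b, hb⟩ := hM.1 hm
    exact hM.2 ⟨this.conj_mem _ h1 _, _, by rw [← q0_b0 q b, map_mul, map_mul, map_inv, map_mul, map_mul, map_inv, hx, hb]⟩
  refine h.kill hc2 (ρ := r Finset.univ) (g := x₀) (fun m hm => ?_) (hr2 _) (fun m => ⟨hq x₀ q hv m, fun hm => ?_⟩) hx
    (hM.2 ⟨?_, 1, ?_⟩) (fun x hx => ?_) ht ht'
  · obtain ⟨h1, b, hb⟩ := hM.1 hm
    refine (g.ker _ (g.N.mul_mem h1 (this.conj_mem _ h1 _))).1 ?_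
    simp only [map_mul, map_inv, ← hb, hr']
    simp only [← map_mul, ← map_inv, r0_b0]
    rw [← map_one (Perm.viaEmbeddingHom e), ← map_one b0]
    congr 2
    funext k
    simp
  · simpa [mul_assoc] using hq x₀⁻¹ q⁻¹ (by rw [map_inv, hv, map_inv, map_inv]) _ hm
  · exact g.N.mul_mem (by simpa using this.conj_mem _ (hr Finset.univ) x₀⁻¹) (g.N.inv_mem (hr _))
  · simp only [map_mul, map_inv, hv, hr']
    simp only [← map_mul, ← map_inv]
    rw [mul_assoc _ _ (q0 q), q0_r0]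
    simp
  · obtain ⟨n, b, h1, h2⟩ := hP x hx
    exact ⟨n, hM.2 ⟨h1, b, h2.symm⟩⟩

end GS

end Cfsg.Agent.KZ.ClA
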