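import Cfsg.Agent.KZ.ClA.Grp
import Cfsg.Agent.KZ.Tool.Up

/-!
# KZ, type A (helper18): `27 ≤ |P : P'|`, and the exception of degree `4`
-/

set_option autoImplicit false
set_option linter.unusedSectionVars false

namespace Cfsg.Agent.KZ.ClA

open Equiv Cfsg.Agent.KZ.Alt
open scoped commutatorElement

local instance fact3 : Fact (Nat.Prime 3) := ⟨Nat.prime_three⟩

variable {R : Type} [Fintype R] [DecidableEq R] {Q : ℤ}

theorem exists_root {n : ℕ} (hn : n ≠ 0) : ∃ z : ℂˣ, orderOf z = n := by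
  have h := Complex.isPrimitiveRoot_exp n hn
  exact ⟨(h.isUnit hn).unit, (h.isUnit_unit hn).eq_orderOf.symm⟩

theorem nab_perm {k l : ℕ} (hk : k ≤ 2) (hl : l ≤ Fintype.card R) (h : 3 ^ k ∣ l.factorial) (S : Sylow 3 (Perm R)) :
    3 ^ k ≤ nab S := by
  have h1 : 3 ^ k ≤ Nat.card (S : Subgroup (Perm R)) := by
    rw [S.card_eq_multiplicity, Nat.card_perm, Nat.card_eq_fintype_card]
    exact Nat.pow_le_pow_right (by norm_num) ((Nat.prime_three.pow_dvd_iff_le_factorization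
      (Nat.factorial_ne_zero _)).1 (h.trans (Nat.factorial_dvd_factorial hl)))
  have h2 : 3 ^ k ≤ 3 ^ 2 := Nat.pow_le_pow_right (by norm_num) hk
  rcases nine_le_or S.2 with h3 | h3 <;> unfold nab <;> omega

theorem nab_perm27 (h : 12 ≤ Fintype.card R) (S : Sylow 3 (Perm R)) : 27 ≤ nab S :=
  nab_ge h (Fintype.equivFin R).permCongrHom.toMonoidHom (Fintype.equivFin R).permCongrHom.injective
    (fun σ _ => (Fintype.equivFin R).permCongrHom.surjective σ) S

/-- the Sylow subgroup in the exceptional case -/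
def U4 (H : Type) [Group H] : Prop :=
  ∃ V : Subgroup H, V.index = 3 ∧ (∀ a ∈ V, ∀ b ∈ V, a * b = b * a) ∧ (∀ v ∈ V, v ^ 3 = 1) ∧ (∃ x : H, x ^ 3 ≠ 1) ∧
    (commutator H).index ≤ 9

theorem U4.congr {H K : Type} [Group H] [Group K] (e : K ≃* H) (h : U4 H) : U4 K := by
  obtain ⟨V, h1, h2, h3, ⟨x, hx⟩, h4⟩ := h
  refine ⟨V.comap e.toMonoidHom, by rw [Subgroup.index_comap_of_surjective _ e.surjective, h1], fun a ha b hb => ?_,
    fun v hv => ?_, ⟨e.symm x, fun h => hx ?_⟩, by rwa [Res.index_comm_congr e]⟩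
  · exact e.injective (by rw [map_mul, map_mul]; exact h2 _ ha _ hb)
  · exact e.injective (by rw [map_pow, map_one]; exact h3 _ hv)
  · rw [← e.apply_symm_apply x, ← map_pow, h, map_one]

namespace GS

variable {E : Type} [Group E] [Finite E] (g : GS E R Q)

theorem exists_both (P : Sylow 3 E) {a b : E} (ha : a ∈ (P : Subgroup E)) (hb : b ∈ (P : Subgroup E)) :
    ∃ x ∈ (P : Subgroup E), g.v x = g.v a ∧ x * b⁻¹ ∈ g.N := by
  have := g.nor
  let Φ := g.v.prod (QuotientGroup.mk' g.N)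
  have hΦ : Function.Surjective Φ := by
    rintro ⟨σ, y⟩
    obtain ⟨y, rfl⟩ := QuotientGroup.mk_surjective y
    obtain ⟨n, hn, h⟩ := g.surj (σ * (g.v y)⁻¹)
    refine ⟨n * y, Prod.ext ?_ ?_⟩
    · show g.v (n * y) = σ
      rw [map_mul, h, inv_mul_cancel_right]
    · show ((n * y : E) : E ⧸ g.N) = y
      rw [QuotientGroup.mk_mul, (QuotientGroup.eq_one_iff n).2 hn, one_mul]
  let K := ((P : Subgroup E).map g.v).prod ((P : Subgroup E).map (QuotientGroup.mk' g.N))
  have hK : IsPGroup 3 K := by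
    rintro ⟨⟨x', y'⟩, hxy⟩
    obtain ⟨⟨x, hx, rfl : g.v x = x'⟩, ⟨y, hy, rfl : QuotientGroup.mk' g.N y = y'⟩⟩ := id hxy
    obtain ⟨i, hi⟩ := P.2 ⟨x, hx⟩
    obtain ⟨j, hj⟩ := P.2 ⟨y, hy⟩
    have hi' : x ^ 3 ^ i = 1 := congrArg Subtype.val hi
    have hj' : y ^ 3 ^ j = 1 := congrArg Subtype.val hj
    refine ⟨i + j, Subtype.ext (Prod.ext ?_ ?_)⟩
    · show g.v x ^ 3 ^ (i + j) = 1
      rw [← map_pow, pow_add, pow_mul, hi', one_pow, map_one]
    · show QuotientGroup.mk' g.N y ^ 3 ^ (i + j) = 1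
      rw [← map_pow, pow_add, mul_comm, pow_mul, hj', one_pow, map_one]
  have h1 : K = (P.mapSurjective hΦ : Subgroup _) := (P.mapSurjective hΦ).3 hK (by
    rintro _ ⟨x, hx, rfl⟩
    exact ⟨⟨x, hx, rfl⟩, ⟨x, hx, rfl⟩⟩)
  have h2 : (g.v a, QuotientGroup.mk' g.N b) ∈ K := ⟨⟨a, ha, rfl⟩, ⟨b, hb, rfl⟩⟩
  rw [h1] at h2
  obtain ⟨x, hx, h3⟩ := h2
  refine ⟨x, hx, congrArg Prod.fst h3, ?_⟩
  have h4 : (x : E ⧸ g.N) = b := congrArg Prod.snd h3
  rw [← QuotientGroup.eq_one_iff, QuotientGroup.mk_mul, QuotientGroup.mk_inv, h4, mul_inv_cancel]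

/-- the image of `P` in the symmetric group -/
noncomputable def SP (P : Sylow 3 E) : Sylow 3 (Perm R) := P.mapSurjective g.v_surj

/-- the image of `P` in the outer quotient -/
noncomputable def JP [g.N.Normal] (P : Sylow 3 E) : Sylow 3 (E ⧸ g.N) :=
  P.mapSurjective (QuotientGroup.mk'_surjective g.N)

theorem bound [g.N.Normal] (P : Sylow 3 E) {ι : Type} (c : ι → R → ℂˣ) (hc : ∀ i, Ok Q (c i))
    (hi : ∀ i j, (∀ r r', c i r * (c j r)⁻¹ = c i r' * (c j r')⁻¹) → i = j)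
    (hk : ∀ i, ∀ t ∈ g.T, t ∈ ⁅(P : Subgroup E), (P : Subgroup E)⁆ → g.Θ (c i) t = 1) :
    nab (g.SP P) * nab (g.JP P) * Nat.card ι ≤ nab P := by
  let f : (P : Subgroup E) →* Abelianization (g.SP P : Subgroup (Perm R)) × Abelianization (g.JP P : Subgroup (E ⧸ g.N)) :=
    (Abelianization.of.comp (g.v.subgroupMap P)).prod (Abelianization.of.comp ((QuotientGroup.mk' g.N).subgroupMap P))
  have hf : Function.Surjective f := by
    rintro ⟨a, b⟩
    obtain ⟨⟨_, a, ha, rfl⟩, rfl⟩ : ∃ x, Abelianization.of x = a := QuotientGroup.mk_surjective a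
    obtain ⟨⟨_, b, hb, rfl⟩, rfl⟩ : ∃ x, Abelianization.of x = b := QuotientGroup.mk_surjective b
    obtain ⟨x, hx, h1, h2⟩ := g.exists_both P ha hb
    refine ⟨⟨x, hx⟩, Prod.ext (congrArg Abelianization.of (Subtype.ext h1)) (congrArg Abelianization.of (Subtype.ext ?_))⟩
    show (x : E ⧸ g.N) = b
    rw [← mul_inv_eq_one, ← QuotientGroup.mk_inv, ← QuotientGroup.mk_mul, QuotientGroup.eq_one_iff]
    exact h2
  have h := count (g.T.subgroupOf P) f hf (fun t ht => ?_)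
    (fun i => (g.hom (hc i)).comp ((P : Subgroup E).subtype.subgroupComap g.T)) (fun i j e => hi i j ?_) fun i t ht => ?_
  · rwa [Nat.card_prod] at h
  · have h1 : g.v.subgroupMap P t = 1 := Subtype.ext ((g.ker _ (g.le ht)).2 ht)
    have h2 : (QuotientGroup.mk' g.N).subgroupMap P t = 1 := Subtype.ext ((QuotientGroup.eq_one_iff _).2 (g.le ht))
    exact Prod.ext ((congrArg Abelianization.of h1).trans (map_one _))
      ((congrArg (Abelianization.of (G := (g.JP P : Subgroup (E ⧸ g.N)))) h2).trans (map_one _))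
  · refine g.const_of_V (c := c i * (c j)⁻¹) ((hc i).mul (hc j).inv) fun t ht => ?_
    have h1 : g.Θ (c i) t = g.Θ (c j) t := DFunLike.congr_fun e ⟨⟨t, g.V_le P ht⟩, ht.1⟩
    rw [g.div_left (hc i) (hc j) ht.1, h1, mul_inv_cancel]
  · refine hk i _ t.2 ?_
    rw [← Subgroup.map_subtype_commutator]
    exact ⟨_, ht, rfl⟩

theorem bound0 [g.N.Normal] (P : Sylow 3 E) : nab (g.SP P) * nab (g.JP P) ≤ nab P := by
  have h := g.bound P (fun _ : Unit => 1) (fun _ => Ok.one) (fun _ _ _ => rfl) fun _ t ht _ => g.one_left ht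
  rwa [Nat.card_unique, mul_one] at h

/-- the standard position -/
structure Std {w : ℕ} (e : Fin w × C3 ↪ R) (q : Perm (Fin w)) (P : Sylow 3 E) : Prop where
  fwd : ∀ x ∈ (P : Subgroup E), ∃ (b : Fin w → C3) (n : ℤ), g.v x = Perm.viaEmbeddingHom e (b0 b * q0 q ^ n)
  bwd : ∀ (b : Fin w → C3) (n : ℤ), ∃ x ∈ (P : Subgroup E), g.v x = Perm.viaEmbeddingHom e (b0 b * q0 q ^ n)

theorem exists_stdP {w : ℕ} (hw : Fintype.card R / 3 = w) (e : Fin w × C3 ↪ R) (q : Perm (Fin w))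
    (hq : orderOf q = 3 ^ w.factorial.factorization 3) : ∃ P : Sylow 3 E, g.Std e q P := by
  obtain ⟨S, hS⟩ := exists_std hw e q hq
  obtain ⟨P, rfl⟩ := Sylow.mapSurjective_surjective g.v_surj 3 S
  exact ⟨P, fun x hx => (hS _).1 ⟨x, hx, rfl⟩, fun b n => (hS _).2 ⟨b, n, rfl⟩⟩

variable {g}

/-- the case `P ≤ N` -/
theorem Std.kill_in {w : ℕ} {e : Fin w × C3 ↪ R} {q : Perm (Fin w)} {P : Sylow 3 E} (h : g.Std e q P)
    (hP : (P : Subgroup E) ≤ g.N) {d : Fin w → ℂˣ} {y : R → ℂˣ} (hc : Ok Q (lab e d y)) {z : ℂˣ} (hz : Ok Q fun _ : R => z)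
    (hq : lab e d y ∘ Perm.viaEmbeddingHom e (q0 q) = (fun _ => z) * lab e d y) :
    ∀ t ∈ g.T, t ∈ ⁅(P : Subgroup E), (P : Subgroup E)⁆ → g.Θ (lab e d y) t = 1 := by
  obtain ⟨x₀, hx₀, h1⟩ := h.bwd 1 1
  rw [map_one, one_mul, zpow_one] at h1
  refine fun t ht ht' => g.kill e q h1 (fun x hx => ?_) hc (fun t ht => ?_) ht ht'
  · obtain ⟨b, n, h2⟩ := h.fwd x hx
    refine ⟨n, b, g.N.mul_mem (hP hx) (g.N.inv_mem (g.N.zpow_mem (hP hx₀) n)), ?_⟩
    rw [map_mul, map_inv, map_zpow, h1, h2, map_mul, map_zpow, mul_inv_cancel_right]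
  · rw [g.actN (hP hx₀) hc ht, h1, hq, g.mul' _ _ hz hc t ht, (g.one _ hz).2 (fun _ _ => rfl) t ht, one_mul]

theorem Std.kill_in' {w : ℕ} {e : Fin w × C3 ↪ R} {q : Perm (Fin w)} {P : Sylow 3 E} (h : g.Std e q P)
    (hP : (P : Subgroup E) ≤ g.N) {d : Fin w → ℂˣ} {y : R → ℂˣ} (hc : Ok Q (lab e d y)) (hq : ∀ i, d (q i) = d i) :
    ∀ t ∈ g.T, t ∈ ⁅(P : Subgroup E), (P : Subgroup E)⁆ → g.Θ (lab e d y) t = 1 :=
  h.kill_in hP hc (z := 1) Ok.one ((lab_comp e d y fun x => hq x.1).trans (one_mul _).symm)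

/-- the case of a cyclic outer part -/
theorem Std.kill_out [g.N.Normal] {w : ℕ} {e : Fin w × C3 ↪ R} {P : Sylow 3 E} (h : g.Std e 1 P)
    (hJ : IsCyclic (g.JP P : Subgroup (E ⧸ g.N))) {d : Fin w → ℂˣ} {y : R → ℂˣ} (hc : Ok Q (lab e d y))
    (h3 : lab e d y ^ 3 = 1) : ∀ t ∈ g.T, t ∈ ⁅(P : Subgroup E), (P : Subgroup E)⁆ → g.Θ (lab e d y) t = 1 := by
  obtain ⟨⟨_, a, ha, rfl⟩, hgen⟩ := hJ.exists_generator
  obtain ⟨x₀, hx₀, h1, h2⟩ := g.exists_both P (P : Subgroup E).one_mem ha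
  rw [map_one] at h1
  obtain ⟨j, hj⟩ := P.2 ⟨x₀, hx₀⟩
  refine fun t ht ht' => g.kill e 1 (x₀ := x₀) (by rw [h1, map_one, map_one]) (fun x hx => ?_) hc
    (fun t ht => g.act3 (j := j) (congrArg Subtype.val hj) hc h3 (by rw [h1]; rfl) ht) ht ht'
  obtain ⟨b, n, h4⟩ := h.fwd x hx
  obtain ⟨m, hm⟩ := hgen ⟨_, x, hx, rfl⟩
  have h5 : (a : E ⧸ g.N) ^ m = x := congrArg Subtype.val hm
  have h6 : (x₀ : E ⧸ g.N) = a := by
    rw [← mul_inv_eq_one, ← QuotientGroup.mk_inv, ← QuotientGroup.mk_mul, QuotientGroup.eq_one_iff]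
    exact h2
  refine ⟨m, b, ?_, ?_⟩
  · rw [← QuotientGroup.eq_one_iff, QuotientGroup.mk_mul, QuotientGroup.mk_inv, QuotientGroup.mk_zpow, h6, h5,
      mul_inv_cancel]
  · rw [map_mul, map_inv, map_zpow, h1, h4]
    simp

end GS

theorem fin_inj {z : ℂˣ} {n : ℕ} (hz : orderOf z = n) {i j : Fin n} (h : z ^ (i : ℕ) * (z ^ (j : ℕ))⁻¹ = 1 * 1⁻¹) : i = j := by
  rw [inv_one, mul_one, mul_inv_eq_one] at h
  exact Fin.ext (pow_injOn_Iio_orderOf (by rw [hz]; exact i.2) (by rw [hz]; exact j.2) h)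

theorem pow_pow_eq {z : ℂˣ} {n : ℕ} (hz : orderOf z = n) (i : ℕ) : (z ^ i) ^ n = 1 := by
  rw [← pow_mul, mul_comm, pow_mul, ← hz, pow_orderOf_eq_one, one_pow]

theorem order_rot : orderOf (finRotate 3) = 3 ^ (Nat.factorial 3).factorization 3 := by
  have h : (Nat.factorial 3).factorization 3 = 1 := by
    rw [factorization_factorial]
    simp
  rw [h, pow_one]
  exact orderOf_eq_prime (by decide) (by decide)

theorem order_one {w : ℕ} (hw : w < 3) : orderOf (1 : Perm (Fin w)) = 3 ^ w.factorial.factorization 3 := by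
  rw [factorization_factorial, Nat.div_eq_of_lt hw]
  simp

namespace GS

variable {E : Type} [Group E] [Finite E] (g : GS E R Q)

/-- **the lower bound** -/
theorem main (hm : 4 ≤ Fintype.card R) (h3 : 3 ∣ Q - 1)
    (h : ¬ (Fintype.card R = 4 ∧ ¬ 9 ∣ Q - 1 ∧ ¬ 3 ∣ g.N.index)) (P : Sylow 3 E) : 27 ≤ nab P := by
  have := g.nor
  have h31 : (3 : ℤ) ^ 1 ∣ Q - 1 := by rwa [pow_one]
  have s3 := fun S => nab_perm (R := R) (k := 1) (l := 3) (by norm_num) (by omega) (by decide) S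
  have s9 := fun (h : 6 ≤ Fintype.card R) S => nab_perm (R := R) (k := 2) (by norm_num) h (by decide) S
  obtain ⟨ω, hω⟩ := exists_root (n := 3) (by norm_num)
  have c3 : Nat.card (Fin 3) = 3 := Nat.card_fin 3
  by_cases hi : 3 ∣ g.N.index
  · have hJ : ∀ P : Sylow 3 E, 3 ∣ Nat.card (g.JP P : Subgroup (E ⧸ g.N)) := fun P =>
      (g.JP P).dvd_card_of_dvd_card hi
    have hJ' : ∀ P : Sylow 3 E, 9 ≤ nab (g.JP P) ∨ (nab (g.JP P) = 3 ∧ IsCyclic (g.JP P : Subgroup (E ⧸ g.N))) := by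
      intro P
      rcases nine_le_or (g.JP P).2 with h1 | h1
      · exact .inl h1
      · obtain ⟨k, hk⟩ := IsPGroup.iff_card.1 (g.JP P).2
        have h2 := hJ P
        rw [hk] at h2
        unfold nab
        rw [h1]
        rcases k with _ | _ | k
        · exact absurd h2 (by decide)
        · exact .inr ⟨hk, isCyclic_of_prime_card (p := 3) hk⟩
        · left
          rw [hk]
          exact Nat.pow_le_pow_right (n := 3) (i := 2) (by norm_num) (by omega)
    by_cases h6 : 6 ≤ Fintype.card R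
    · have h1 := g.bound0 P
      have h2 := s9 h6 (g.SP P)
      rcases hJ' P with h4 | ⟨h4, -⟩ <;> nlinarith
    · obtain ⟨e⟩ := exists_emb (R := R) (w := 1) (by omega)
      obtain ⟨P', hP'⟩ := g.exists_stdP (by omega) e 1 (order_one (by norm_num))
      rw [Res.nab_eq P P']
      have h2 := s3 (g.SP P')
      rcases hJ' P' with h4 | ⟨h4, h5⟩
      · have h1 := g.bound0 P'
        nlinarith
      · obtain ⟨r, hr⟩ := exists_out e (by omega)
        have hp : ∀ i : Fin 3, lab e (fun _ => ω ^ (i : ℕ)) 1 ^ 3 = 1 := fun i =>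
          lab_pow e (fun _ => pow_pow_eq hω i) fun _ => one_pow _
        have hc : ∀ i : Fin 3, Ok Q (lab e (fun _ => ω ^ (i : ℕ)) 1) := fun i =>
          ok_of_pow (j := 1) (hp i) h31 (.inr (by omega))
        have h1 := g.bound P' _ hc (fun i j hij => fin_inj hω (by
          have := hij (e (0, 1)) r
          rwa [lab_e, lab_e, lab_out _ _ _ hr, lab_out _ _ _ hr] at this)) fun i => hP'.kill_out h5 (hc i) (hp i)
        rw [c3, h4] at h1
        omega
  · have hP : ∀ P : Sylow 3 E, (P : Subgroup E) ≤ g.N := Res.sylow_le_of_index hi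
    have hJ : ∀ P : Sylow 3 E, 1 ≤ nab (g.JP P) := fun P => Res.nab_pos _
    by_cases h12 : 12 ≤ Fintype.card R
    · have h1 := g.bound0 P
      have h2 := nab_perm27 h12 (g.SP P)
      have h4 := hJ P
      nlinarith
    -- a point outside the blocks
    have out : ∀ {w : ℕ} (_ : Fintype.card R / 3 = w) (q : Perm (Fin w)) (_ : orderOf q = 3 ^ w.factorial.factorization 3)
        (_ : ¬ 3 ∣ Fintype.card R) {k : ℕ} (_ : (3 : ℤ) ^ k ∣ Q - 1), ∃ S : Sylow 3 (Perm R), nab S * 3 ^ k ≤ nab P := by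
      intro w hw q hq hn k hk
      obtain ⟨e⟩ := exists_emb hw
      obtain ⟨P', hP'⟩ := g.exists_stdP hw e q hq
      obtain ⟨r, hr⟩ := exists_out e (by omega)
      obtain ⟨z, hz⟩ := exists_root (n := 3 ^ k) (by positivity)
      have hc : ∀ i : Fin (3 ^ k), Ok Q (lab e (fun _ => z ^ (i : ℕ)) 1) := fun i =>
        ok_of_pow (lab_pow e (fun _ => pow_pow_eq hz i) fun _ => one_pow _) hk (.inr hn)
      have h1 := g.bound P' _ hc (fun i j hij => fin_inj hz (by
        have := hij (e (⟨0, by omega⟩, 1)) r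
        rwa [lab_e, lab_e, lab_out _ _ _ hr, lab_out _ _ _ hr] at this)) fun i =>
          hP'.kill_in' (hP P') (hc i) fun _ => rfl
      rw [Nat.card_fin] at h1
      refine ⟨g.SP P', ?_⟩
      rw [Res.nab_eq P P']
      exact le_trans (Nat.mul_le_mul_right _ (Nat.le_mul_of_pos_right _ (hJ P'))) h1
    -- no point outside the blocks
    have ins : ∀ {w : ℕ} (_ : Fintype.card R = 3 * (w + 2)) (q : Perm (Fin (w + 2)))
        (_ : orderOf q = 3 ^ (w + 2).factorial.factorization 3)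
        (_ : ∀ i : ℕ, ∃ j : ℕ, ∀ b : Fin (w + 2), (ω ^ i) ^ (q b : ℕ) = ω ^ j * (ω ^ i) ^ (b : ℕ)), 27 ≤ nab P := by
      intro w hw q hq hz
      obtain ⟨e⟩ := exists_emb (R := R) (w := w + 2) (by omega)
      obtain ⟨P', hP'⟩ := g.exists_stdP (by omega) e q hq
      have hd : ∀ (i : Fin 3) (b : Fin (w + 2)), ((ω ^ (i : ℕ)) ^ (b : ℕ)) ^ 3 = 1 := fun i b => by
        rw [← pow_mul ω]
        exact pow_pow_eq hω _
      have hc : ∀ i : Fin 3, Ok Q (lab e (fun b => (ω ^ (i : ℕ)) ^ (b : ℕ)) 1) := fun i =>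
        ok_of_pow (j := 1) (lab_pow e (hd i) fun _ => one_pow _) h31 (.inl (prod_lab e (hd i)))
      have he : Function.Surjective e := ((Fintype.bijective_iff_injective_and_card e).2 ⟨e.injective, by
        simp only [Fintype.card_prod, Fintype.card_fin, Fintype.card_multiplicative, ZMod.card]
        omega⟩).2
      have h1 := g.bound P' _ hc (fun i j hij => fin_inj hω (by
        have := hij (e (1, 1)) (e (0, 1))
        simpa [lab_e] using this)) fun i => by
          obtain ⟨j, hj⟩ := hz i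
          refine hP'.kill_in (hP P') (hc i) (z := ω ^ j) (ok_of_pow (j := 1) (funext fun _ => pow_pow_eq hω j) h31
            (.inl ?_)) (funext fun r => ?_)
          · rw [Finset.prod_const, Finset.card_univ, hw, pow_mul, pow_pow_eq hω, one_pow]
          · obtain ⟨x, rfl⟩ := he r
            rw [Function.comp_apply, Perm.viaEmbeddingHom_apply, Perm.viaEmbedding_apply, Pi.mul_apply, lab_e, lab_e]
            exact hj x.1
      have h2 := s9 (by omega) (g.SP P')
      have h4 := hJ P'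
      rw [c3] at h1
      rw [Res.nab_eq P P']
      nlinarith
    have hcase : Fintype.card R = 4 ∨ Fintype.card R = 5 ∨ Fintype.card R = 6 ∨ (Fintype.card R = 7 ∨ Fintype.card R = 8) ∨
        Fintype.card R = 9 ∨ (Fintype.card R = 10 ∨ Fintype.card R = 11) := by omega
    rcases hcase with h4 | h4 | h4 | h4 | h4 | h4
    · obtain ⟨S, hS⟩ := out (w := 1) (by omega) 1 (order_one (by norm_num)) (by omega) (k := 2)
        (by_contra fun h5 => h ⟨h4, h5, hi⟩)
      have := s3 S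
      omega
    · obtain ⟨e⟩ := exists_emb (R := R) (w := 1) (by omega)
      obtain ⟨P', hP'⟩ := g.exists_stdP (by omega) e 1 (order_one (by norm_num))
      obtain ⟨r, hr, r', hr', hne⟩ : ∃ r ∈ (Finset.univ.map e)ᶜ, ∃ r' ∈ (Finset.univ.map e)ᶜ, r ≠ r' := by
        rw [← Finset.one_lt_card, Finset.card_compl, Finset.card_map, h4]
        simp
      replace hr : r ∉ Set.range e := by simpa using hr
      replace hr' : r' ∉ Set.range e := by simpa using hr'
      have hc : ∀ i : Fin 3 × Fin 3, Ok Q (lab e (fun _ => ω ^ (i.1 : ℕ)) (Pi.mulSingle r (ω ^ (i.2 : ℕ)))) := fun i =>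
        ok_of_pow (j := 1) (lab_pow e (fun _ => pow_pow_eq hω _) fun r => by
          rw [← Pi.pow_apply, ← Pi.mulSingle_pow, pow_one, pow_pow_eq hω, Pi.mulSingle_one, Pi.one_apply]) h31
          (.inr (by omega))
      have h1 := g.bound P' _ hc (fun i j hij => Prod.ext (fin_inj hω (by
        have := hij (e (0, 1)) r'
        rwa [lab_e, lab_e, lab_out _ _ _ hr', lab_out _ _ _ hr', Pi.mulSingle_eq_of_ne hne.symm,
          Pi.mulSingle_eq_of_ne hne.symm] at this)) (fin_inj hω (by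
        have := hij r r'
        rwa [lab_out _ _ _ hr, lab_out _ _ _ hr, lab_out _ _ _ hr', lab_out _ _ _ hr', Pi.mulSingle_eq_of_ne hne.symm,
          Pi.mulSingle_eq_of_ne hne.symm, Pi.mulSingle_eq_same, Pi.mulSingle_eq_same] at this))) fun i =>
          hP'.kill_in' (hP P') (hc i) fun _ => rfl
      have h2 := s3 (g.SP P')
      have h5 := hJ P'
      rw [Nat.card_prod, c3] at h1
      rw [Res.nab_eq P P']
      nlinarith
    · exact ins (w := 0) h4 1 (order_one (by norm_num)) fun i => ⟨0, fun b => by simp⟩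
    · obtain ⟨S, hS⟩ := out (w := 2) (by omega) 1 (order_one (by norm_num)) (by omega) h31
      have := s9 (by omega) S
      omega
    · refine ins (w := 1) h4 (finRotate 3) order_rot fun i => ⟨i, fun b => ?_⟩
      rw [← pow_succ']
      fin_cases b
      · rfl
      · rfl
      · exact (pow_zero _).trans (pow_pow_eq hω i).symm
    · obtain ⟨S, hS⟩ := out (w := 3) (by omega) (finRotate 3) order_rot (by omega) h31
      have := s9 (by omega) S
      omega

end GS

end Cfsg.Agent.KZ.ClA
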